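import Mathlib.RingTheory.GradedAlgebra.Noetherian
import Mathlib.RingTheory.GradedAlgebra.HomogeneousLocalization
import Mathlib.RingTheory.GradedAlgebra.Homogeneous.Ideal
import Mathlib.RingTheory.FiniteType
import Mathlib.RingTheory.Noetherian.Basic

/-!
# Charts of a Noetherian graded ring are Noetherian
-/

set_option autoImplicit false
universe u v

open DirectSum

namespace Groth.Agent.Lib.GeomHt62

variable {R : Type u} {A : Type v} [CommRing R] [CommRing A] [Algebra R A] (𝒜 : ℕ → Submodule R A) [GradedRing 𝒜]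

/-- A finite family of homogeneous elements of positive degree generating `S₊`. -/
structure Gens where
  /-- the elements, with their degrees -/
  F : Finset (ℕ × A)
  mem : ∀ f ∈ F, f.2 ∈ 𝒜 f.1 ∧ 0 < f.1
  span : ∀ (m : ℕ) (a : A), 0 < m → a ∈ 𝒜 m → a ∈ Ideal.span (Prod.snd '' (F : Set (ℕ × A)))

/-- Positive degree components of a finite set. -/
noncomputable def posComp (s : Finset A) : Finset (ℕ × A) := by
  classical
  exact s.biUnion fun g =>
    ((DFinsupp.support (decompose 𝒜 g)).filter (fun i => 0 < i)).image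
      fun i => (i, ((decompose 𝒜 g i : 𝒜 i) : A))

theorem posComp_mem (s : Finset A) : ∀ f ∈ posComp 𝒜 s, f.2 ∈ 𝒜 f.1 ∧ 0 < f.1 := by
  classical
  intro f hf
  simp only [posComp, Finset.mem_biUnion, Finset.mem_image, Finset.mem_filter] at hf
  obtain ⟨g, -, i, ⟨-, hi⟩, rfl⟩ := hf
  exact ⟨(decompose 𝒜 g i).2, hi⟩

theorem sub_proj_mem (s : Finset A) {g : A} (hg : g ∈ s) :
    g - (decompose 𝒜 g 0 : A) ∈ Ideal.span (Prod.snd '' (posComp 𝒜 s : Set (ℕ × A))) := by
  classical
  have h := DirectSum.sum_support_decompose 𝒜 g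
  have h2 : g - (decompose 𝒜 g 0 : A) =
      ∑ i ∈ (DFinsupp.support (decompose 𝒜 g)).filter (fun i => 0 < i), ((decompose 𝒜 g i : 𝒜 i) : A) := by
    rw [sub_eq_iff_eq_add]
    conv_lhs => rw [← h, ← Finset.sum_filter_add_sum_filter_not _ (fun i => 0 < i)]
    congr 1
    rw [Finset.sum_eq_single 0]
    · intro i hi h0
      simp only [Finset.mem_filter] at hi
      omega
    · intro h0
      by_contra hne
      refine h0 (Finset.mem_filter.mpr ⟨(DFinsupp.mem_support_toFun _ _).mpr fun he => hne ?_, Nat.lt_irrefl 0⟩)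
      rw [he]; rfl
  rw [h2]
  refine Ideal.sum_mem _ fun i hi => Ideal.subset_span ⟨(i, _), ?_, rfl⟩
  simp only [posComp, Finset.coe_biUnion, Set.mem_iUnion, Finset.mem_coe, Finset.mem_image]
  exact ⟨g, hg, i, hi, rfl⟩

theorem gens_of_fg (h : (HomogeneousIdeal.irrelevant 𝒜).toIdeal.FG) : Nonempty (Gens 𝒜) := by
  obtain ⟨s, hs⟩ := h
  refine ⟨⟨posComp 𝒜 s, posComp_mem 𝒜 s, fun m a hm ha => ?_⟩⟩
  have ha' : a ∈ Ideal.span (s : Set A) := hs.symm ▸ HomogeneousIdeal.mem_irrelevant_of_mem 𝒜 hm ha
  refine Ideal.span_le.mpr (fun g hg => ?_) ha'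
  have h0 : (decompose 𝒜 g 0 : A) = 0 := by
    have : g ∈ (HomogeneousIdeal.irrelevant 𝒜).toIdeal := hs ▸ Ideal.subset_span hg
    have := (HomogeneousIdeal.mem_irrelevant_iff 𝒜 g).mp this
    rwa [GradedRing.proj_apply] at this
  have := sub_proj_mem 𝒜 s hg
  rwa [h0, sub_zero] at this

theorem finiteType_of_gens (G : Gens 𝒜) : Algebra.FiniteType (𝒜 0) A := by
  classical
  refine ⟨⟨G.F.image Prod.snd, top_unique fun x _ => ?_⟩⟩
  set T := Algebra.adjoin (𝒜 0) (↑(G.F.image Prod.snd) : Set A)
  have key : ∀ (m : ℕ) (a : A), a ∈ 𝒜 m → a ∈ T := by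
    intro m
    induction m using Nat.strong_induction_on with
    | _ m ih =>
      intro a ha
      rcases Nat.eq_zero_or_pos m with rfl | hm
      · exact T.algebraMap_mem (⟨a, ha⟩ : 𝒜 0)
      suffices ∀ z ∈ Ideal.span (Prod.snd '' (G.F : Set (ℕ × A))), ∀ r : A, (decompose 𝒜 (r * z) m : A) ∈ T by
        have h := this a (G.span m a hm ha) 1
        rwa [one_mul, decompose_of_mem_same 𝒜 ha] at h
      intro z hz
      induction hz using Submodule.span_induction with
      | zero => intro r; simp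
      | add u v _ _ hu hv =>
        intro r; rw [mul_add, decompose_add, DirectSum.add_apply, Submodule.coe_add]; exact T.add_mem (hu r) (hv r)
      | smul c u _ hu => intro r; rw [smul_eq_mul, ← mul_assoc]; exact hu _
      | mem z hz =>
        obtain ⟨f, hf, rfl⟩ := hz
        intro r
        induction r using DirectSum.Decomposition.inductionOn 𝒜 with
        | zero => simp
        | add u v hu hv => rw [add_mul, decompose_add, DirectSum.add_apply, Submodule.coe_add]; exact T.add_mem hu hv
        | @homogeneous l r =>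
          have hmem : (r : A) * f.2 ∈ 𝒜 (l + f.1) := SetLike.GradedMul.mul_mem r.2 (G.mem f hf).1
          by_cases h : l + f.1 = m
          · have hf0 := (G.mem f hf).2
            subst h
            rw [decompose_of_mem_same 𝒜 hmem]
            exact T.mul_mem (ih l (by omega) _ r.2)
              (Algebra.subset_adjoin (Finset.mem_coe.mpr (Finset.mem_image_of_mem Prod.snd hf)))
          · rw [decompose_of_mem_ne 𝒜 hmem h]; exact T.zero_mem
  rw [← DirectSum.sum_support_decompose 𝒜 x]
  exact T.sum_mem fun i _ => key i _ (decompose 𝒜 x i).2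


theorem isNoetherianRing_away [IsNoetherianRing A] {d : ℕ} {f : A} (hf : f ∈ 𝒜 d) :
    IsNoetherianRing (HomogeneousLocalization.Away 𝒜 f) := by
  obtain ⟨G⟩ := gens_of_fg 𝒜 (IsNoetherian.noetherian _)
  have := finiteType_of_gens 𝒜 G
  have : IsNoetherianRing (𝒜 0) := GradedRing.GradeZero.isNoetherianRing 𝒜
  have := HomogeneousLocalization.Away.finiteType f d hf
  exact Algebra.FiniteType.isNoetherianRing (𝒜 0) _

end Groth.Agent.Lib.GeomHt62
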