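import Groth.Prelude.Def_W4c2ratsingkovacsGH
import Mathlib.AlgebraicGeometry.ProjectiveSpectrum.Scheme
import Mathlib.RingTheory.GradedAlgebra.Radical
import Mathlib.RingTheory.Ideal.KrullsHeightTheorem
import Mathlib.RingTheory.Noetherian.Basic
import Mathlib.RingTheory.Regular.RegularSequence
import Groth.Agent.Lib.GeomHt62.Noeth

/-!
# Geometric height: prime avoidance and charts
-/

set_option autoImplicit false
set_option linter.unusedSectionVars false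

universe u v

open W4c2ratsingkovacs

namespace Groth.Agent.Lib.GeomHt62

variable {R : Type u} {A : Type v} [CommRing R] [CommRing A] [Algebra R A] (𝒜 : ℕ → Submodule R A) [GradedRing 𝒜]

theorem exists_homogeneous_not_mem {I P : Ideal A} (hI : I.IsHomogeneous 𝒜) (h : ¬ I ≤ P) :
    ∃ d, ∃ x ∈ 𝒜 d, x ∈ I ∧ x ∉ P := by
  classical
  obtain ⟨x, hxI, hxP⟩ := SetLike.not_le_iff_exists.1 h
  by_contra hc
  simp only [not_exists, not_and, not_not] at hc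
  refine hxP ?_
  rw [← DirectSum.sum_support_decompose 𝒜 x]
  exact Ideal.sum_mem _ fun i _ => hc i _ (SetLike.coe_mem _) (hI i hxI)

theorem minimalPrimes_isHomogeneous {I P : Ideal A} (hI : I.IsHomogeneous 𝒜) (hP : P ∈ I.minimalPrimes) :
    P.IsHomogeneous 𝒜 := by
  have h1 : I ≤ (P.homogeneousCore 𝒜).toIdeal := by
    rw [← hI.toIdeal_homogeneousCore_eq_self]
    exact Ideal.homogeneousCore_mono 𝒜 hP.1.2
  rw [le_antisymm (hP.2 ⟨hP.1.1.homogeneousCore, h1⟩ (Ideal.toIdeal_homogeneousCore_le 𝒜 P))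
    (Ideal.toIdeal_homogeneousCore_le 𝒜 P)]
  exact (P.homogeneousCore 𝒜).isHomogeneous

theorem irrelevant_mem {x : A} {d : ℕ} (hd : 0 < d) (hx : x ∈ 𝒜 d) :
    x ∈ (HomogeneousIdeal.irrelevant 𝒜).toIdeal := by
  classical
  simp [HomogeneousIdeal.mem_irrelevant_iff, DirectSum.decompose_of_mem_ne 𝒜 hx hd.ne']

theorem mem_irrelevant_deg {x : A} {d : ℕ} (hx : x ∈ 𝒜 d) (hI : x ∈ (HomogeneousIdeal.irrelevant 𝒜).toIdeal)
    (hx0 : x ≠ 0) : 0 < d := by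
  classical
  rcases Nat.eq_zero_or_pos d with rfl | h
  · exact absurd (by simpa [HomogeneousIdeal.mem_irrelevant_iff, DirectSum.decompose_of_mem_same 𝒜 hx] using hI) hx0
  · exact h

/-- Homogeneous prime avoidance. -/
theorem exists_avoid {I : Ideal A} (hI : I.IsHomogeneous 𝒜) (s : Finset (Ideal A))
    (hs : ∀ P ∈ s, P.IsPrime ∧ ¬ I ≤ P ∧ ¬ (HomogeneousIdeal.irrelevant 𝒜).toIdeal ≤ P) :
    ∃ d, 0 < d ∧ ∃ a ∈ 𝒜 d, a ∈ I ∧ ∀ P ∈ s, a ∉ P := by
  classical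
  induction s using Finset.strongInduction with
  | _ s ih =>
    rcases s.eq_empty_or_nonempty with rfl | hne
    · exact ⟨1, one_pos, 0, zero_mem _, zero_mem _, by simp⟩
    let core : Ideal A → Ideal A := fun P => (P.homogeneousCore 𝒜).toIdeal
    obtain ⟨P₀, hP₀s, hmin⟩ := Finset.exists_minimal (s := s.image core) (hne.image _)
    obtain ⟨P, hP, rfl⟩ := Finset.mem_image.mp hP₀s
    let s' := s.filter fun Q => core Q ≠ core P
    have hlt : s' ⊂ s := Finset.filter_ssubset.mpr ⟨P, hP, by simp⟩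
    obtain ⟨d, hd, a, ha, haI, hav⟩ := ih s' hlt fun Q hQ => hs Q (Finset.mem_filter.mp hQ).1
    have hmem : ∀ {x : A} {e : ℕ}, x ∈ 𝒜 e → ∀ Q : Ideal A, (x ∈ core Q ↔ x ∈ Q) := fun {x e} hx Q =>
      ⟨fun h => Ideal.toIdeal_homogeneousCore_le 𝒜 Q h,
        fun h => Ideal.mem_homogeneousCore_of_homogeneous_of_mem ⟨e, hx⟩ h⟩
    by_cases haP : a ∈ P
    swap
    · refine ⟨d, hd, a, ha, haI, fun Q hQ => ?_⟩
      by_cases hQP : core Q = core P
      · exact fun h => haP ((hmem ha P).mp (hQP ▸ (hmem ha Q).mpr h))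
      · exact hav Q (Finset.mem_filter.mpr ⟨hQ, hQP⟩)
    obtain ⟨hPp, hIP, hirr⟩ := hs P hP
    have hnle : ∀ Q ∈ s', ∃ e, ∃ w ∈ 𝒜 e, w ∈ core Q ∧ w ∉ P := by
      intro Q hQ
      obtain ⟨hQs, hQP⟩ := Finset.mem_filter.mp hQ
      refine exists_homogeneous_not_mem 𝒜 (Q.homogeneousCore 𝒜).isHomogeneous fun hle => hQP ?_
      have h1 : core Q ≤ core P := by
        show (Q.homogeneousCore 𝒜).toIdeal ≤ (P.homogeneousCore 𝒜).toIdeal
        rw [← (Q.homogeneousCore 𝒜).isHomogeneous.toIdeal_homogeneousCore_eq_self]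
        exact Ideal.homogeneousCore_mono 𝒜 hle
      exact le_antisymm h1 (hmin (Finset.mem_image_of_mem _ hQs) h1)
    choose e w hw hwQ hwP using hnle
    obtain ⟨du, u, hu, huI, huP⟩ := exists_homogeneous_not_mem 𝒜 hI hIP
    obtain ⟨dv, v, hv, hvI, hvP⟩ := exists_homogeneous_not_mem 𝒜 (HomogeneousIdeal.irrelevant 𝒜).isHomogeneous hirr
    have hdv : 0 < dv := mem_irrelevant_deg 𝒜 hv hvI fun h => hvP (h ▸ zero_mem _)
    let prodw := ∏ Q ∈ s'.attach, w Q.1 Q.2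
    have hprodw : prodw ∈ 𝒜 (∑ Q ∈ s'.attach, e Q.1 Q.2) :=
      SetLike.prod_mem_graded (A := 𝒜) (fun Q : {Q // Q ∈ s'} => e Q.1 Q.2) (fun Q => w Q.1 Q.2) fun Q _ => hw Q.1 Q.2
    let b := u * v * prodw
    have hb : b ∈ 𝒜 (du + dv + ∑ Q ∈ s'.attach, e Q.1 Q.2) :=
      SetLike.mul_mem_graded (SetLike.mul_mem_graded hu hv) hprodw
    have hbP : b ∉ P := by
      refine hPp.mul_notMem (hPp.mul_notMem huP hvP) fun h => ?_
      obtain ⟨Q, -, hQ⟩ := (Ideal.IsPrime.prod_mem_iff (p := P) (hp := hPp)).mp h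
      exact hwP Q.1 Q.2 hQ
    have hbQ : ∀ Q ∈ s', b ∈ Q := fun Q hQ => Ideal.mul_mem_left _ _ (Ideal.prod_mem Q (Finset.mem_attach _ ⟨Q, hQ⟩)
      (Ideal.toIdeal_homogeneousCore_le 𝒜 Q (hwQ Q hQ)))
    let m := du + dv + ∑ Q ∈ s'.attach, e Q.1 Q.2
    have hm : 0 < m := by omega
    have hc : a ^ m + b ^ d ∈ 𝒜 (m * d) := add_mem (by simpa using SetLike.pow_mem_graded m ha)
      (by simpa [mul_comm, m] using SetLike.pow_mem_graded d hb)
    refine ⟨m * d, Nat.mul_pos hm hd, _, hc, add_mem (Ideal.pow_mem_of_mem _ haI m hm)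
      (Ideal.pow_mem_of_mem _ (Ideal.mul_mem_right _ _ (Ideal.mul_mem_right _ _ huI)) d hd), fun Q hQ hmemQ => ?_⟩
    by_cases hQP : core Q = core P
    · have h2 : a ^ m + b ^ d ∈ P := (hmem hc P).mp (hQP ▸ (hmem hc Q).mpr hmemQ)
      have h3 := sub_mem h2 (Ideal.pow_mem_of_mem _ haP m hm)
      rw [add_sub_cancel_left] at h3
      exact hbP (hPp.mem_of_pow_mem d h3)
    · have hQ' : Q ∈ s' := Finset.mem_filter.mpr ⟨hQ, hQP⟩
      have h3 := sub_mem hmemQ (Ideal.pow_mem_of_mem _ (hbQ Q hQ') d hd)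
      rw [add_sub_cancel_right] at h3
      exact hav Q hQ' ((hs Q hQ).1.mem_of_pow_mem m h3)

variable {f : A} {d : ℕ} (hf : f ∈ 𝒜 d)

theorem mk_mem_locIdeal {I : Ideal A} (n : ℕ) (x : A) (hx : x ∈ 𝒜 (n • d)) (h : x ∈ I) :
    HomogeneousLocalization.Away.mk 𝒜 hf n x hx ∈ locIdeal 𝒜 I f := by
  show (HomogeneousLocalization.Away.mk 𝒜 hf n x hx).val ∈ I.map (algebraMap A (Localization.Away f))
  rw [HomogeneousLocalization.Away.val_mk, Localization.mk_eq_mk', IsLocalization.mk'_eq_mul_mk'_one]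
  exact Ideal.mul_mem_right _ _ (Ideal.mem_map_of_mem _ h)

theorem disjoint_powers {Q : Ideal A} [Q.IsPrime] (hfQ : f ∉ Q) :
    Disjoint (Submonoid.powers f : Set A) (Q : Set A) := by
  rw [Set.disjoint_left]
  rintro _ ⟨n, rfl⟩ h
  exact hfQ (Ideal.IsPrime.mem_of_pow_mem ‹_› n h)

theorem mk_mem_locIdeal_iff {Q : Ideal A} [Q.IsPrime] (hfQ : f ∉ Q) (n : ℕ) (x : A) (hx : x ∈ 𝒜 (n • d)) :
    HomogeneousLocalization.Away.mk 𝒜 hf n x hx ∈ locIdeal 𝒜 Q f ↔ x ∈ Q := by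
  refine ⟨fun h => ?_, mk_mem_locIdeal 𝒜 hf n x hx⟩
  have h1 : (HomogeneousLocalization.Away.mk 𝒜 hf n x hx).val ∈ Q.map (algebraMap A (Localization.Away f)) := h
  rw [HomogeneousLocalization.Away.val_mk, Localization.mk_eq_mk'] at h1
  have h2 := Ideal.mul_mem_right (algebraMap A (Localization.Away f) (f ^ n)) _ h1
  rw [IsLocalization.mk'_spec] at h2
  have h3 : x ∈ (Q.map (algebraMap A (Localization.Away f))).comap (algebraMap A (Localization.Away f)) := h2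
  rwa [← Ideal.under_def, IsLocalization.under_map_of_isPrime_disjoint (Submonoid.powers f) _ ‹_› (disjoint_powers hfQ)] at h3

theorem isPrime_locIdeal {Q : Ideal A} [Q.IsPrime] (hfQ : f ∉ Q) : (locIdeal 𝒜 Q f).IsPrime :=
  have := IsLocalization.isPrime_of_isPrime_disjoint (Submonoid.powers f) (Localization.Away f) Q ‹_› (disjoint_powers hfQ)
  Ideal.comap_isPrime _ _

theorem locIdeal_mono {I I' : Ideal A} (h : I ≤ I') : locIdeal 𝒜 I f ≤ locIdeal 𝒜 I' f :=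
  Ideal.comap_mono (Ideal.map_mono h)

open AlgebraicGeometry AlgebraicGeometry.ProjIsoSpecTopComponent in
theorem exists_homogeneous_prime {d : ℕ} (hf : f ∈ 𝒜 d) (hd : 0 < d) (𝔭 : Ideal (HomogeneousLocalization.Away 𝒜 f)) [h𝔭 : 𝔭.IsPrime] :
    ∃ Q : Ideal A, Q.IsPrime ∧ Q.IsHomogeneous 𝒜 ∧ f ∉ Q ∧ locIdeal 𝒜 Q f = 𝔭 ∧
      ∀ I : Ideal A, I.IsHomogeneous 𝒜 → locIdeal 𝒜 I f ≤ 𝔭 → I ≤ Q := by
  classical
  let q : PrimeSpectrum (HomogeneousLocalization.Away 𝒜 f) := ⟨𝔭, h𝔭⟩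
  let QH := FromSpec.carrier.asHomogeneousIdeal hf hd q
  have hQp : QH.toIdeal.IsPrime := FromSpec.carrier.asIdeal.prime hf hd q
  have hfQ : f ∉ QH.toIdeal := FromSpec.carrier.denom_notMem hf hd q
  have key : ∀ n (x : A) (hx : x ∈ 𝒜 (n • d)),
      HomogeneousLocalization.Away.mk 𝒜 hf n x hx ∈ 𝔭 ↔ x ∈ QH.toIdeal := fun n x hx =>
    (FromSpec.num_mem_carrier_iff hf hd q ⟨n • d, ⟨x, hx⟩, ⟨f ^ n, SetLike.pow_mem_graded n hf⟩, ⟨n, rfl⟩⟩).symm
  refine ⟨QH.toIdeal, hQp, QH.isHomogeneous, hfQ, ?_, fun I hI hle x hx => ?_⟩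
  · ext z
    obtain ⟨n, a, ha, rfl⟩ := HomogeneousLocalization.Away.mk_surjective 𝒜 hf z
    rw [mk_mem_locIdeal_iff 𝒜 hf hfQ, key]
  · rw [← DirectSum.sum_support_decompose 𝒜 x]
    refine Ideal.sum_mem _ fun i _ => ?_
    let y : A := DirectSum.decompose 𝒜 x i
    have hy : y ^ d ∈ 𝒜 (i • d) := by
      simpa [y, smul_eq_mul, mul_comm] using SetLike.pow_mem_graded d (SetLike.coe_mem (DirectSum.decompose 𝒜 x i))
    refine hQp.mem_of_pow_mem d ((key i _ hy).mp (hle (mk_mem_locIdeal 𝒜 hf i _ hy ?_)))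
    exact Ideal.pow_mem_of_mem _ (hI i hx) d hd

theorem exists_seq [IsNoetherianRing A] {J : Ideal A} (hJ : J.IsHomogeneous 𝒜) (h : ℕ)
    (hJh : HasUniformGeomHeight 𝒜 J h) (P : Finset (Ideal A))
    (hP : ∀ q ∈ P, q.IsPrime ∧ ¬ J ≤ q ∧ ¬ (HomogeneousIdeal.irrelevant 𝒜).toIdeal ≤ q) :
    ∀ j : ℕ, j ≤ h → ∃ zs : List A, zs.length = j ∧
      (∀ z ∈ zs, (∃ n : ℕ, 0 < n ∧ z ∈ 𝒜 n) ∧ z ∈ J ∧ ∀ q ∈ P, z ∉ q) ∧
      ∀ (f : A) (n : ℕ), 0 < n → f ∈ 𝒜 n → f ∉ J.radical → ∀ i ≤ j, ∀ Q : Ideal A,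
        Q.IsPrime → Q.IsHomogeneous 𝒜 → f ∉ Q → Ideal.ofList (zs.take i) ≤ Q →
          (i : ℕ∞) ≤ (locIdeal 𝒜 Q f).height := by
  classical
  intro j
  induction j with
  | zero => exact fun _ => ⟨[], rfl, by simp, fun f n _ _ _ i hi Q _ _ _ _ => by simp [Nat.le_zero.mp hi]⟩
  | succ j ih =>
    intro hj
    obtain ⟨zs, hlen, hzs, hht⟩ := ih (Nat.le_of_succ_le hj)
    let Z := Ideal.ofList zs
    have hZhom : Z.IsHomogeneous 𝒜 := by
      refine Ideal.homogeneous_span 𝒜 _ fun z hz => ?_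
      obtain ⟨⟨n, -, hn⟩, -, -⟩ := hzs z hz
      exact ⟨n, hn⟩
    have hfin := Ideal.finite_minimalPrimes_of_isNoetherianRing A Z
    let T := hfin.toFinset.filter fun q => ¬ J ≤ q ∧ ¬ (HomogeneousIdeal.irrelevant 𝒜).toIdeal ≤ q
    obtain ⟨d, hd, z, hz, hzJ, hzav⟩ := exists_avoid 𝒜 hJ (P ∪ T) (fun q hq => by
      rcases Finset.mem_union.mp hq with hq | hq
      · exact hP q hq
      · obtain ⟨h1, h2⟩ := Finset.mem_filter.mp hq
        exact ⟨(hfin.mem_toFinset.mp h1).1.1, h2⟩)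
    refine ⟨zs ++ [z], by simp [hlen], ?_, ?_⟩
    · intro y hy
      rcases List.mem_append.mp hy with hy | hy
      · exact hzs y hy
      · rw [List.mem_singleton.mp hy]
        exact ⟨⟨d, hd, hz⟩, hzJ, fun q hq => hzav q (Finset.mem_union_left _ hq)⟩
    intro f n hn hfn hfJ i hi Q hQp hQh hfQ hle
    rcases Nat.lt_or_ge i (j + 1) with hlt | hge
    · rw [List.take_append_of_le_length (by omega)] at hle
      exact hht f n hn hfn hfJ i (by omega) Q hQp hQh hfQ hle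
    · obtain rfl : i = j + 1 := le_antisymm hi hge
      rw [List.take_of_length_le (by simp [hlen]), Ideal.ofList_append, Ideal.ofList_singleton, sup_le_iff,
        Ideal.span_singleton_le_iff_mem] at hle
      obtain ⟨q, hq, hqQ⟩ := Ideal.exists_minimalPrimes_le hle.1
      haveI hqp : q.IsPrime := hq.1.1
      have hfq : f ∉ q := fun h => hfQ (hqQ h)
      haveI := isPrime_locIdeal 𝒜 hfQ
      haveI := isPrime_locIdeal 𝒜 hfq
      by_cases hJq : J ≤ q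
      · have h1 := Ideal.height_mono (locIdeal_mono 𝒜 (f := f) (hJq.trans hqQ))
        rw [show (locIdeal 𝒜 J f).height = h from hJh f n hn hfn hfJ] at h1
        exact le_trans (by exact_mod_cast hj) h1
      · have hirr : ¬ (HomogeneousIdeal.irrelevant 𝒜).toIdeal ≤ q := fun hh => hfq (hh (irrelevant_mem 𝒜 hn hfn))
        have hzq : z ∉ q := hzav q (Finset.mem_union_right _ (Finset.mem_filter.mpr
          ⟨hfin.mem_toFinset.mpr hq, hJq, hirr⟩))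
        have hlt : locIdeal 𝒜 q f < locIdeal 𝒜 Q f := by
          refine lt_of_le_of_ne (locIdeal_mono 𝒜 hqQ) fun heq => hzq ?_
          have hzn : z ^ n ∈ 𝒜 (d • n) := by
            simpa [smul_eq_mul, mul_comm] using SetLike.pow_mem_graded n hz
          refine hqp.mem_of_pow_mem n ((mk_mem_locIdeal_iff 𝒜 hfn hfq d _ hzn).mp ?_)
          rw [heq]
          exact mk_mem_locIdeal 𝒜 hfn d _ hzn (Ideal.pow_mem_of_mem _ hle.2 n hn)
        have h2 := hht f n hn hfn hfJ j le_rfl q hqp (minimalPrimes_isHomogeneous 𝒜 hZhom hq) hfq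
          (by rw [List.take_of_length_le hlen.le]; exact hq.1.2)
        push_cast
        exact le_trans (add_le_add h2 le_rfl) (Ideal.height_add_one_le_of_lt_of_isPrime hlt)

theorem geomHeight_eq [IsNoetherianRing A] {J : Ideal A} (h : ℕ) (hJh : HasUniformGeomHeight 𝒜 J h)
    (hd : 0 < d) (hfJ : f ∉ J.radical) (l : List A) (j : ℕ) (hlen : l.length ≤ j)
    (hl : ∀ z ∈ l, (∃ n : ℕ, 0 < n ∧ z ∈ 𝒜 n) ∧ z ∈ J)
    (hlow : ∀ Q : Ideal A, Q.IsPrime → Q.IsHomogeneous 𝒜 → f ∉ Q → Ideal.ofList l ≤ Q →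
      (j : ℕ∞) ≤ (locIdeal 𝒜 Q f).height)
    (hf : f ∈ 𝒜 d) : geomHeight 𝒜 (Ideal.ofList l) f = j := by
  classical
  have hZhom : (Ideal.ofList l).IsHomogeneous 𝒜 := by
    refine Ideal.homogeneous_span 𝒜 _ fun z hz => ?_
    obtain ⟨⟨n, -, hn⟩, -⟩ := hl z hz
    exact ⟨n, hn⟩
  haveI : IsNoetherianRing (HomogeneousLocalization.Away 𝒜 f) := isNoetherianRing_away 𝒜 hf
  have hne : locIdeal 𝒜 J f ≠ ⊤ := fun he => by
    have := hJh f d hd hf hfJ
    rw [geomHeight, he, Ideal.height_top] at this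
    exact ENat.coe_ne_top h this.symm
  have hle : locIdeal 𝒜 (Ideal.ofList l) f ≤ locIdeal 𝒜 J f :=
    locIdeal_mono 𝒜 (Ideal.span_le.mpr fun z hz => (hl z hz).2)
  refine le_antisymm ?_ ?_
  · choose deg hdeg hmem using fun z : {z // z ∈ l} => (hl z.1 z.2).1
    have hpow : ∀ z : {z // z ∈ l}, z.1 ^ d ∈ 𝒜 (deg z • d) := fun z => by
      simpa [smul_eq_mul, mul_comm] using SetLike.pow_mem_graded d (hmem z)
    let b : {z // z ∈ l} → HomogeneousLocalization.Away 𝒜 f := fun z =>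
      HomogeneousLocalization.Away.mk 𝒜 hf (deg z) _ (hpow z)
    let s := l.attach.toFinset.image b
    obtain ⟨𝔭, h𝔭⟩ := Ideal.nonempty_minimalPrimes (fun he : locIdeal 𝒜 (Ideal.ofList l) f = ⊤ => hne (top_le_iff.mp (he ▸ hle)))
    haveI := h𝔭.1.1
    refine le_trans (Ideal.height_mono h𝔭.1.2) ?_
    refine le_trans (Ideal.height_le_card_of_mem_minimalPrimes_span_finset (s := s) ⟨⟨h𝔭.1.1, ?_⟩, fun 𝔯 h𝔯 h𝔯𝔭 => ?_⟩) ?_
    · refine Ideal.span_le.mpr fun y hy => ?_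
      obtain ⟨z, -, rfl⟩ := Finset.mem_image.mp hy
      exact h𝔭.1.2 (mk_mem_locIdeal 𝒜 hf _ _ _ (Ideal.pow_mem_of_mem (Ideal.ofList l) (Ideal.subset_span (s := {x | x ∈ l}) z.2) d hd))
    · haveI := h𝔯.1
      obtain ⟨Q, hQp, -, hfQ, hQ, -⟩ := exists_homogeneous_prime 𝒜 hf hd 𝔯
      refine h𝔭.2 ⟨h𝔯.1, ?_⟩ h𝔯𝔭
      rw [← hQ]
      refine locIdeal_mono 𝒜 (Ideal.span_le.mpr fun z hz => hQp.mem_of_pow_mem d ?_)
      refine (mk_mem_locIdeal_iff 𝒜 hf hfQ _ _ (hpow ⟨z, hz⟩)).mp (hQ ▸ h𝔯.2 (Ideal.subset_span ?_))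
      exact Finset.mem_image.mpr ⟨⟨z, hz⟩, by simp, rfl⟩
    · exact_mod_cast le_trans Finset.card_image_le (le_trans (List.toFinset_card_le _) (by simpa using hlen))
  · rw [geomHeight, Ideal.height_eq_inf_minimalPrimes]
    refine le_iInf₂ fun 𝔭 h𝔭 => ?_
    haveI := h𝔭.1.1
    obtain ⟨Q, hQp, hQh, hfQ, rfl, hmax⟩ := exists_homogeneous_prime 𝒜 hf hd 𝔭
    exact hlow Q hQp hQh hfQ (hmax _ hZhom h𝔭.1.2)

end Groth.Agent.Lib.GeomHt62
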